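import Cfsg.Agent.Fusion.ComponentExistence
import Cfsg.Agent.Fusion.CentralPair.Product
import Cfsg.Prelude.Def_FusionFitting

/-!
Constrained systems have trivial layer.
-/

set_option autoImplicit false
set_option linter.unusedSectionVars false
set_option linter.style.haveILetI false

namespace Cfsg.Lib.Fusion.Fitting

open Cfsg Cfsg.FusionSystem Cfsg.Lib.Fusion

universe u

variable {Ω : Type u} [Group Ω] {S T U : Subgroup Ω} {F : FusionSystem S} {p : ℕ}

/-- A subsystem has its group inside. -/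
theorem le_of_sub {C : FusionSystem U} {E : FusionSystem T} (h : C.IsSubsystemOf E) : U ≤ T :=
  (CharSub.isMap_of_sub h (isMap_id le_rfl)).le

/-- The trivial system lies in every system. -/
theorem inner_bot_sub (D : FusionSystem T) :
    (innerFusionSystem (⊥ : Subgroup Ω)).IsSubsystemOf D := by
  intro P φ hφ
  obtain ⟨hP, g, hg, e⟩ := hφ
  refine IsMap.mem_toFun' ((isMap_conj (hP.trans bot_le) T.one_mem).congr fun x hx => ?_)
  rw [toFun'_apply_mem φ hx, e ⟨x, hx⟩, Subgroup.mem_bot.mp hg]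

/-- A system on the whole product with the splitting maps is a central product. -/
theorem isCentralProductOf_of_eq [Finite S] {T₁ T₂ : Subgroup Ω} {E₁ : FusionSystem T₁}
    {E₂ : FusionSystem T₂} (hc : CPair.Comm F T₁ T₂) (h₁ : T₁ ⊓ T₂ ≤ E₁.center)
    (h₂ : T₁ ⊓ T₂ ≤ E₂.center) {D : FusionSystem T} (e : T = T₁ ⊔ T₂)
    (hD : ∀ (P : Subgroup Ω) (f : Ω → Ω), IsMap D P f ↔
      P ≤ T₁ ⊔ T₂ ∧ CPair.Splits E₁ E₂ P f) : IsCentralProductOf E₁ E₂ D := by
  subst e
  exact CPair.isCentralProductOf_of_iff hc h₁ h₂ hD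

variable [Finite S] [Fact p.Prime]

/-- Without components the trivial system is the layer. -/
theorem isLayerOf_bot (hS : IsPGroup p S) (hF : F.IsSaturated p)
    (hno : ¬ ∃ (T : Subgroup Ω) (C : FusionSystem T), C.IsComponentIn F p) :
    (innerFusionSystem (⊥ : Subgroup Ω)).IsLayerOf F p :=
  ⟨NormCent.inner_isNormalIn hS hF isNormal_bot', fun U C hC => absurd ⟨U, C, hC⟩ hno,
    fun _ D _ _ => inner_bot_sub D⟩

/-- The maps of a component contained in the core would be trivial. -/
theorem not_le_core_of_component (hS : IsPGroup p S) (hF : F.IsSaturated p) {E : FusionSystem T}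
    (hE : E.IsLayerOf F p) {C : FusionSystem U} (hC : C.IsComponentIn F p) : ¬ U ≤ F.core := by
  intro hUR
  have hUS := subnormal_le hC.1
  haveI := finite_of_le hUS
  refine Cfsg.Agent.S5148.result p (hS.of_injective _ (Subgroup.inclusion_injective hUS)) C hC.2 ?_
  refine ⟨⟨fun a b => Subtype.ext ?_⟩⟩
  obtain ⟨φ, hφ, e⟩ := isMap_conj (F := C) (le_refl U) a.2
  obtain ⟨-, -, -, k, -, hkf, hkR⟩ := mem_centralizerHom_iff.mp
    (NormCent.layer_centralizes_core hS hF hE U (hE.2.1 U C hC U hφ))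
  have h1 : (a : Ω) * b * (a : Ω)⁻¹ = b := by
    refine ((e b).symm.trans ((toFun'_apply φ b).symm.trans (hkf b b.2).symm)).trans ?_
    exact hkR b (hUR b.2)
  show (a : Ω) * b = b * a
  exact mul_inv_eq_iff_eq_mul.mp h1

theorem constrained_iff_inner_fitting (hS : IsPGroup p S) (hF : F.IsSaturated p) :
    F.IsConstrained p ↔ (innerFusionSystem F.core).IsGeneralizedFittingOf F p := by
  rw [CompEx.isConstrained_iff hS hF]
  have hR : F.IsNormal F.core := isNormal_core
  constructor
  · intro hno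
    refine ⟨⊥, _, isLayerOf_bot hS hF hno, ?_⟩
    have hc : CPair.Comm F F.core ⊥ := ⟨stronglyClosed_of_isNormal hR,
      stronglyClosed_of_isNormal isNormal_bot',
      fun a _ b hb => by rw [Subgroup.mem_bot.mp hb, mul_one, one_mul]⟩
    refine isCentralProductOf_of_eq hc (inf_le_right.trans bot_le) (inf_le_right.trans bot_le)
      (sup_bot_eq F.core).symm fun P f => ⟨fun hf => ?_, fun ⟨hP, f₁, f₂, h₁, h₂, hs⟩ => ?_⟩
    · refine ⟨hf.le.trans le_sup_left, f, id, ?_, isMap_id CPair.prj_le, fun a _ b hb _ => ?_⟩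
      · refine hf.mono fun x hx => ?_
        have h1 : x ∈ P ⊔ ⊥ := hx.1
        rwa [sup_bot_eq] at h1
      · rw [show b = 1 from Subgroup.mem_bot.mp hb.2]
        show f (a * 1) = f a * 1
        rw [mul_one, mul_one]
    · rw [sup_bot_eq] at hP
      refine (h₁.mono fun x hx => ⟨Subgroup.mem_sup_left hx, hP hx⟩).congr fun x hx => ?_
      have hxp : x ∈ CPair.prj F.core ⊥ P := ⟨Subgroup.mem_sup_left hx, hP hx⟩
      have h1 := hs x hxp 1 (Subgroup.one_mem _) (by rwa [mul_one])
      rw [mul_one, h₂.map_one, mul_one] at h1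
      exact h1
  · rintro ⟨T, E, hE, hD⟩ ⟨U, C, hC⟩
    have hEn := hE.1.1.2.2
    have hc : CPair.Comm F F.core T := by
      refine ⟨stronglyClosed_of_isNormal hR, hEn.2.1, fun a ha b hb => ?_⟩
      obtain ⟨φ, hφ, e⟩ := isMap_id (F := E) (le_refl T)
      have hTC : T ≤ centralizerIn S F.core := (mem_centralizerHom_iff.mp
        (NormCent.layer_centralizes_core hS hF hE T hφ)).1
      have h1 := (Fusion.mem_centralizerIn.mp (hTC hb)).2 a ha
      conv_lhs => rw [← h1]
      group
    obtain ⟨hT, -⟩ := CPair.isMap_of_centralProduct hc hD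
    exact not_le_core_of_component hS hF hE hC ((le_of_sub (hE.2.1 U C hC)).trans
      (le_sup_right.trans hT.ge))

end Cfsg.Lib.Fusion.Fitting
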