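import Cfsg.Agent.Fusion.Layer.Exists
import Cfsg.Agent.Fusion.Fitting.Trivial
import Cfsg.Agent.Fusion.CentralPair.System

/-!
The generalized Fitting subsystem exists and is normal.
-/

set_option autoImplicit false
set_option linter.unusedSectionVars false
set_option linter.style.haveILetI false

namespace Cfsg.Lib.Fusion.Fitting

open Cfsg Cfsg.FusionSystem Cfsg.Lib.Fusion

universe u

variable {Ω : Type u} [Group Ω] {S T : Subgroup Ω} {F : FusionSystem S} {p : ℕ}
  [Finite S] [Fact p.Prime]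

variable {E : FusionSystem T}

/-- The core and the layer form a commuting pair. -/
theorem pair_core_layer (hS : IsPGroup p S) (hF : F.IsSaturated p) (hE : E.IsLayerOf F p) :
    CPair.Pair F (innerFusionSystem F.core) E p := by
  refine ⟨hS, hF, NormCent.inner_isNormalIn hS hF isNormal_core, hE.1, fun a ha b hb => ?_⟩
  obtain ⟨φ, hφ, -⟩ := isMap_id (F := E) (le_refl T)
  have hTC : T ≤ centralizerIn S F.core := (mem_centralizerHom_iff.mp
    (NormCent.layer_centralizes_core hS hF hE T hφ)).1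
  have h1 := (Fusion.mem_centralizerIn.mp (hTC hb)).2 a ha
  conv_lhs => rw [← h1]
  group

/-- The layer fixes its intersection with the core. -/
theorem inf_le_center_layer (hS : IsPGroup p S) (hF : F.IsSaturated p) (hE : E.IsLayerOf F p) :
    F.core ⊓ T ≤ E.center := by
  have hA : E.IsNormal (F.core ⊓ T) := NormCent.isNormal_inf hS hE.1.1 isNormal_core
  refine le_sSup (isCentral_iff.mpr ⟨inf_le_right, fun P f hf => ?_⟩)
  obtain ⟨k, hk, hkf, hki⟩ := extend_of_isNormal hA hf
  refine ⟨k, hk, hkf, fun x hx => ?_⟩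
  obtain ⟨φ, hφ, e⟩ := hk
  obtain ⟨-, -, -, g, -, hgf, hgR⟩ := mem_centralizerHom_iff.mp
    (NormCent.layer_centralizes_core hS hF hE _ hφ)
  have hxs : x ∈ P ⊔ (F.core ⊓ T) := Subgroup.mem_sup_right hx
  exact (e ⟨x, hxs⟩).symm.trans ((toFun'_apply_mem φ hxs).symm.trans
    ((hgf x hxs).symm.trans (hgR x hx.1)))

theorem inf_le_center_inner (hS : IsPGroup p S) (hF : F.IsSaturated p) (hE : E.IsLayerOf F p) :
    F.core ⊓ T ≤ (innerFusionSystem F.core).center := by
  have hp := pair_core_layer hS hF hE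
  refine le_sSup (isCentral_iff.mpr ⟨inf_le_left, fun P f hf => ?_⟩)
  obtain ⟨φ, ⟨hP, g, hg, eg⟩, e⟩ := hf
  refine ⟨fun x => g * x * g⁻¹, isMap_conj (sup_le hP inf_le_left) hg,
    fun x hx => (eg ⟨x, hx⟩).symm.trans (e ⟨x, hx⟩), fun x hx => ?_⟩
  show g * x * g⁻¹ = x
  rw [hp.commute g hg x hx.2, mul_inv_cancel_right]

theorem exists_and_normal (hS : IsPGroup p S) (hF : F.IsSaturated p) :
    (∃ (U : Subgroup Ω) (D : FusionSystem U), D.IsGeneralizedFittingOf F p) ∧
      ∀ (U : Subgroup Ω) (D : FusionSystem U), D.IsGeneralizedFittingOf F p →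
        D.IsNormalIn F p := by
  refine ⟨?_, fun U D hD => ?_⟩
  · obtain ⟨T, E, hE⟩ := Layer.exists_layer hS hF
    obtain ⟨D, -, hD⟩ := CPair.exists_central_product (pair_core_layer hS hF hE)
      (inf_le_center_inner hS hF hE) (inf_le_center_layer hS hF hE)
    exact ⟨_, D, T, E, hE, hD⟩
  · obtain ⟨T, E, hE, hD'⟩ := hD
    exact CPair.normal_of_centralProduct (pair_core_layer hS hF hE) hD'
      (inf_le_center_layer hS hF hE)

end Cfsg.Lib.Fusion.Fitting
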