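import Cfsg.Agent.Fusion.Fitting.Normal
import Cfsg.Agent.Fusion.NormalCentralizer.CentSub

/-!
The generalized Fitting subsystem contains its centralizer.
-/

set_option autoImplicit false
set_option linter.unusedSectionVars false
set_option linter.style.haveILetI false

namespace Cfsg.Lib.Fusion.Fitting

open Cfsg Cfsg.FusionSystem Cfsg.Lib.Fusion

universe u

variable {Ω : Type u} [Group Ω] {S T U : Subgroup Ω} {F : FusionSystem S} {p : ℕ}
  [Finite S] [Fact p.Prime] {E : FusionSystem T} {D : FusionSystem U}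

/-- The layer lies in the generalized Fitting subsystem. -/
theorem layer_le (hS : IsPGroup p S) (hF : F.IsSaturated p) (hE : E.IsLayerOf F p)
    (hD : IsCentralProductOf (innerFusionSystem F.core) E D) {P : Subgroup Ω} {f : Ω → Ω}
    (hf : IsMap E P f) : IsMap D P f := by
  have hp := pair_core_layer hS hF hE
  obtain ⟨-, hiff⟩ := CPair.isMap_of_centralProduct hp.toComm hD
  haveI := finite_of_le hE.1.1.2.2.2.1.1
  have hPT : P ≤ T := hf.le
  obtain ⟨-, hcen⟩ := isCentral_iff.mp (isCentral_center (F := E))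
  obtain ⟨k, hk, hkf, hkz⟩ := hcen P f hf
  have hle : CPair.prj T F.core P ≤ P ⊔ E.center := fun x hx => by
    obtain ⟨hxT, r, hr, hxr⟩ :=
      (hp.toComm.symm.mem_prj (hPT.trans le_sup_left)).mp hx
    have hrT : r ∈ T := by
      have := T.mul_mem (T.inv_mem hxT) (hPT hxr)
      rwa [inv_mul_cancel_left] at this
    rw [show x = (x * r) * r⁻¹ by group]
    exact Subgroup.mul_mem _ (Subgroup.mem_sup_left hxr)
      (Subgroup.mem_sup_right (E.center.inv_mem (inf_le_center_layer hS hF hE ⟨hr, hrT⟩)))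
  refine (hiff P f).mpr ⟨hPT.trans le_sup_right, id, k,
    isMap_id CPair.prj_le, hk.mono hle, fun a ha b hb hab => ?_⟩
  have hbT : b ∈ T := hb.2
  have haT : a ∈ T := by
    have := T.mul_mem (hPT hab) (T.inv_mem hbT)
    rwa [mul_inv_cancel_right] at this
  have haZ : a ∈ E.center := inf_le_center_layer hS hF hE ⟨ha.2, haT⟩
  show f (a * b) = a * k b
  rw [← hkf _ hab, hk.map_mul (Subgroup.mem_sup_right haZ) (hle hb), hkz a haZ]

theorem self_centralizing (hS : IsPGroup p S) (hF : F.IsSaturated p)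
    (hD : D.IsGeneralizedFittingOf F p) :
    (D.center ≤ centralizerIn S U ∧ ∀ P : Subgroup Ω, D.Hom P ⊆ F.centralizerHom D.center P) ∧
      ∀ Y : Subgroup Ω, Y ≤ centralizerIn S U →
        (∀ P : Subgroup Ω, D.Hom P ⊆ F.centralizerHom Y P) → Y ≤ D.center := by
  obtain ⟨T, E, hE, hD⟩ := hD
  have hp := pair_core_layer hS hF hE
  have hDn := CPair.normal_of_centralProduct hp hD (inf_le_center_layer hS hF hE)
  have hDF := hDn.1.2.2.1
  have hUS : U ≤ S := hDn.1.2.2.2.1.1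
  haveI := finite_of_le hUS
  obtain ⟨hU, hiff⟩ := CPair.isMap_of_centralProduct hp.toComm hD
  obtain ⟨hZU, hcenD⟩ := isCentral_iff.mp (isCentral_center (F := D))
  have hZC : D.center ≤ centralizerIn S U := fun z hz => Fusion.mem_centralizerIn.mpr
    ⟨hUS (hZU hz), fun x hx => by
      rw [← Subgroup.mem_centralizer_iff.mp (center_le_centralizer D hz) x hx, mul_inv_cancel_right]⟩
  refine ⟨⟨hZC, ?_⟩, fun Y hY hYD => ?_⟩
  · refine ((NormCent.adm_iff hDF).mp ⟨hZC, fun P f hf => ?_⟩).2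
    obtain ⟨k, hk, hkf, hkz⟩ := hcenD P f hf
    exact ⟨k, CharSub.isMap_of_sub hDF hk, hkf, hkz⟩
  set R := F.core
  have hRU : R ≤ U := hU ▸ le_sup_left
  have hTU : T ≤ U := hU ▸ le_sup_right
  have hTS : T ≤ S := hE.1.1.2.2.2.1.1
  haveI := finite_of_le hTS
  -- the centralizer of the layer
  obtain ⟨C, hC, hmax⟩ := NormCent.exists_largest hS hE.1
  obtain ⟨hCT, hCE⟩ := (NormCent.adm_iff hE.1.1.2.2.1).mp hC
  obtain ⟨DC, hDC, -⟩ := NormCent.main_centralizer hS hE.1 hCT hCE fun Y hY h =>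
    hmax Y ((NormCent.adm_iff hE.1.1.2.2.1).mpr ⟨hY, h⟩)
  have hCS : C ≤ S := hCT.trans inf_le_left
  haveI := finite_of_le hCS
  have hCp : IsPGroup p C := hS.of_injective _ (Subgroup.inclusion_injective hCS)
  have hDCc : DC.IsConstrained p := by
    rw [CompEx.isConstrained_iff hCp hDC.1.1]
    rintro ⟨V, K, hK, hq⟩
    have hVC := subnormal_le hK
    haveI := finite_of_le (hVC.trans hCS)
    have hVT : V ≤ T := Layer.le_of_isSubsystemOf (hE.2.1 V K ⟨.step hK hDC, hq⟩)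
    exact Cfsg.Agent.S5148.result p (hS.of_injective _ (Subgroup.inclusion_injective (hVC.trans hCS)))
      K hq ⟨⟨fun a b => Subtype.ext
        (NormCent.centralizerIn_comm (hCT (hVC a.2)) (hVT b.2))⟩⟩
  have hQR : DC.core ≤ R :=
    CompEx.le_core (CompEx.isNormal_core_of_invariant hDC.1.2.2 hS hF)
  have hYC : Y ≤ C := by
    refine hmax Y ⟨hY.trans (NormCent.centralizerIn_anti hTU), fun P f hf => ?_⟩
    exact ((NormCent.adm_iff hDF).mpr ⟨hY, hYD⟩).2 P f (layer_le hS hF hE hD hf)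
  have hYR : Y ≤ R := fun y hy => hQR (CompEx.centralizer_le_core hDCc
    (Fusion.mem_centralizerIn.mpr ⟨hYC hy, fun x hx =>
      (Fusion.mem_centralizerIn.mp (hY hy)).2 x (hRU (hQR hx))⟩))
  have hYU : Y ≤ U := hYR.trans hRU
  refine le_sSup (isCentral_iff.mpr ⟨hYU, fun P f hf => ?_⟩)
  obtain ⟨hP, f₁, f₂, hf₁, hf₂, hs⟩ := (hiff P f).mp hf
  obtain ⟨g, hg, eg, hgy⟩ := ((NormCent.adm_iff hDF).mpr ⟨hY, hYD⟩).2 P f hf
  obtain ⟨φ, hφ, eφ⟩ := hf₁
  obtain ⟨-, r, hr, er⟩ := hφ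
  have hYP : P ⊔ Y ≤ R ⊔ T := sup_le hP (hYR.trans le_sup_left)
  have hprj₂ : CPair.prj T R (P ⊔ Y) ≤ CPair.prj T R P := inf_le_inf_right T
    (sup_le (sup_le le_sup_left (hYR.trans le_sup_right)) le_sup_right)
  have hYn : P ≤ Subgroup.normalizer (Y : Set Ω) := fun x hx =>
    Subgroup.centralizer_le_normalizer (Y : Set Ω) (Subgroup.mem_centralizer_iff.mpr fun y hy =>
      NormCent.centralizerIn_comm (hY hy) (hU ▸ hP hx : x ∈ U))
  refine ⟨g, (hiff (P ⊔ Y) g).mpr ⟨hYP, fun x => r * x * r⁻¹, f₂,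
    isMap_conj (F := innerFusionSystem R) CPair.prj_le hr, hf₂.mono hprj₂,
    fun a ha b hb hab => ?_⟩, eg, hgy⟩
  obtain ⟨x, hx, y, hy, exy⟩ : ∃ x ∈ P, ∃ y ∈ Y, x * y = a * b := by
    have h1 := hab
    rwa [← SetLike.mem_coe, Subgroup.coe_mul_of_left_le_normalizer_right _ _ hYn, Set.mem_mul] at h1
  have hyR := hYR hy
  have hbT : b ∈ T := hb.2
  have hby : b * y = y * b := (hp.commute y hyR b hbT).symm
  have hby' : b * y⁻¹ = y⁻¹ * b := (hp.commute _ (R.inv_mem hyR) b hbT).symm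
  have hxab : x = (a * y⁻¹) * b := by
    rw [mul_assoc, ← hby', ← mul_assoc, ← exy, mul_inv_cancel_right]
  have hbP : b ∈ CPair.prj T R P := hprj₂ hb
  have haR : a * y⁻¹ ∈ R := R.mul_mem ha.2 (R.inv_mem hyR)
  have haP : a * y⁻¹ ∈ CPair.prj R T P :=
    (hp.toComm.mem_prj hP).mpr ⟨haR, b, hbT, hxab ▸ hx⟩
  have hyr : r * y * r⁻¹ = y := by
    rw [← NormCent.centralizerIn_comm (hY hy) (hRU hr), mul_inv_cancel_right]
  have hf₁' : f₁ (a * y⁻¹) = r * (a * y⁻¹) * r⁻¹ :=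
    (eφ ⟨_, haP⟩).symm.trans (er ⟨_, haP⟩)
  have hgx : g x = r * (a * y⁻¹) * r⁻¹ * f₂ b := by
    rw [eg x hx, ← hf₁', hxab]
    exact hs _ haP b hbP (hxab ▸ hx)
  rw [← exy, show g (x * y) = g x * g y from
    hg.map_mul (Subgroup.mem_sup_left hx) (Subgroup.mem_sup_right hy), hgy y hy, hgx]
  show r * (a * y⁻¹) * r⁻¹ * f₂ b * y = r * a * r⁻¹ * f₂ b
  have hf₂T : f₂ b ∈ T := hf₂.mem_S hbP
  rw [mul_assoc _ (f₂ b) y, ← hp.commute y hyR _ hf₂T, ← mul_assoc]
  congr 1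
  calc r * (a * y⁻¹) * r⁻¹ * y = r * (a * y⁻¹) * r⁻¹ * (r * y * r⁻¹) := by rw [hyr]
    _ = r * a * r⁻¹ := by group

end Cfsg.Lib.Fusion.Fitting
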